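import Cfsg.Agent.CompLength.PiSimple

/-!
# Subdirect subgroups of a power of a non-abelian simple group

Scott's lemma: such a subgroup is a product of diagonals over a partition of the coordinates.
Also, an automorphism of the power acts coordinatewise after a permutation of the coordinates.
-/

set_option autoImplicit false

namespace CfsgLib.ScottLemma

open Subgroup CfsgLib.CompLength

variable {ι : Type*} {T : Type*} [Group T] [IsSimpleGroup T]

/-- Two coordinates with the same kernel on a subdirect subgroup differ by an automorphism. -/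
theorem link {D : Subgroup (ι → T)} (hsurj : ∀ i, ∀ t : T, ∃ d ∈ D, d i = t) {i j : ι}
    (hij : ∀ d ∈ D, d i = 1 ↔ d j = 1) : ∃ θ : T ≃* T, ∀ d ∈ D, d j = θ (d i) := by
  choose d hd hdi using hsurj i
  have key : ∀ f ∈ D, f j = d (f i) j := fun f hf => by
    have h := (hij _ (D.mul_mem hf (D.inv_mem (hd (f i))))).1 (by simp [hdi])
    simpa [mul_inv_eq_one] using h
  let θ : T →* T := MonoidHom.mk' (fun t => d t j) fun s t => by
    have h := key _ (D.mul_mem (hd s) (hd t))
    simp only [Pi.mul_apply, hdi] at h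
    exact h.symm
  have hinj : Function.Injective θ := (injective_iff_map_eq_one θ).2 fun t ht => by
    rw [← hdi t]
    exact (hij _ (hd t)).2 ht
  have hs : Function.Surjective θ := fun t => by
    obtain ⟨f, hf, rfl⟩ := hsurj j t
    exact ⟨f i, (key f hf).symm⟩
  exact ⟨MulEquiv.ofBijective θ ⟨hinj, hs⟩, key⟩

/-- Coordinates with pairwise different kernels can be prescribed independently. -/
theorem exists_eq_one_on [DecidableEq ι] (hT : ¬ IsMulCommutative T) {D : Subgroup (ι → T)}
    (hsurj : ∀ i, ∀ t : T, ∃ d ∈ D, d i = t) {i : ι} (S : Finset ι)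
    (hsep : ∀ j ∈ S, ∃ d ∈ D, d j = 1 ∧ d i ≠ 1) (t : T) :
    ∃ d ∈ D, (∀ j ∈ S, d j = 1) ∧ d i = t := by
  induction S using Finset.induction generalizing t with
  | empty =>
    obtain ⟨d, hd, h⟩ := hsurj i t
    exact ⟨d, hd, by simp, h⟩
  | @insert j S hj ih =>
    have ih' := ih (fun l hl => hsep l (Finset.mem_insert_of_mem hl))
    let V : Subgroup T :=
      { carrier := {s | ∃ d ∈ D, (∀ l ∈ insert j S, d l = 1) ∧ d i = s}
        one_mem' := ⟨1, D.one_mem, fun _ _ => rfl, rfl⟩
        mul_mem' := by
          rintro _ _ ⟨d, hd, hd1, rfl⟩ ⟨f, hf, hf1, rfl⟩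
          exact ⟨d * f, D.mul_mem hd hf, fun l hl => by simp [hd1 l hl, hf1 l hl], rfl⟩
        inv_mem' := by
          rintro _ ⟨d, hd, hd1, rfl⟩
          exact ⟨d⁻¹, D.inv_mem hd, fun l hl => by simp [hd1 l hl], rfl⟩ }
    have hV : V.Normal := by
      constructor
      rintro _ ⟨d, hd, hd1, rfl⟩ x
      obtain ⟨f, hf, rfl⟩ := hsurj i x
      exact ⟨f * d * f⁻¹, D.mul_mem (D.mul_mem hf hd) (D.inv_mem hf),
        fun l hl => by simp [hd1 l hl], rfl⟩
    obtain ⟨b, hb, hbj, hbi⟩ := hsep j (Finset.mem_insert_self _ _)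
    obtain ⟨x, hx⟩ := exists_not_commute hT hbi
    obtain ⟨a, ha, haS, hai⟩ := ih' x
    have hne : V ≠ ⊥ := fun h => hx (by
      have hmem : b i * x * (b i)⁻¹ * x⁻¹ ∈ V := by
        refine ⟨b * a * b⁻¹ * a⁻¹, D.mul_mem (D.mul_mem (D.mul_mem hb ha) (D.inv_mem hb)) (D.inv_mem ha),
          fun l hl => ?_, by simp [hai]⟩
        rcases Finset.mem_insert.1 hl with rfl | hl
        · simp [hbj]
        · simp [haS l hl]
      simpa [h] using hmem)
    exact (hV.eq_bot_or_eq_top.resolve_left hne).ge (mem_top t)

/-- Scott's lemma: a subdirect subgroup is the set of functions which, after twisting the coordinates by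
automorphisms, are constant on the blocks of a partition. -/
theorem exists_diagonals [Finite ι] (hT : ¬ IsMulCommutative T) (D : Subgroup (ι → T))
    (hsurj : ∀ i, ∀ t : T, ∃ d ∈ D, d i = t) :
    ∃ (c : ι → ι) (θ : ι → T ≃* T),
      (∀ i j, c i = c j ↔ ∀ d ∈ D, d i = 1 ↔ d j = 1) ∧ (∀ i, c (c i) = c i) ∧
      ∀ f, f ∈ D ↔ ∀ i j, c i = c j → (θ i).symm (f i) = (θ j).symm (f j) := by
  classical
  haveI := Fintype.ofFinite ι
  let s : Setoid ι :=
    { r := fun i j => ∀ d ∈ D, d i = 1 ↔ d j = 1
      iseqv :=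
        { refl := fun i d _ => Iff.rfl
          symm := fun h d hd => (h d hd).symm
          trans := fun h h' d hd => (h d hd).trans (h' d hd) } }
  let c : ι → ι := fun i => (Quotient.mk s i).out
  have hc : ∀ i, ∀ d ∈ D, d (c i) = 1 ↔ d i = 1 := fun i => Quotient.exact (Quotient.out_eq (Quotient.mk s i))
  have hcc : ∀ i j, c i = c j ↔ ∀ d ∈ D, d i = 1 ↔ d j = 1 := fun i j => by
    refine ⟨fun h d hd => ?_, fun h => ?_⟩
    · rw [← hc i d hd, h, hc j d hd]
    · exact congrArg Quotient.out (Quotient.sound (s := s) h)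
  have hidem : ∀ i, c (c i) = c i := fun i => (hcc _ _).2 (hc i)
  choose θ hθ using fun i => link hsurj (hc i)
  refine ⟨c, θ, hcc, hidem, fun f => ⟨fun hf i j h => ?_, fun hf => ?_⟩⟩
  · rw [hθ i f hf, hθ j f hf, MulEquiv.symm_apply_apply, MulEquiv.symm_apply_apply, h]
  -- prescribe the representatives
  have key : ∀ S : Finset ι, (∀ r ∈ S, c r = r) → ∀ t : ι → T,
      ∃ d ∈ D, (∀ r ∈ S, d r = t r) ∧ ∀ r, c r = r → r ∉ S → d r = 1 := by
    intro S
    induction S using Finset.induction with
    | empty => exact fun _ t => ⟨1, D.one_mem, by simp, fun _ _ _ => rfl⟩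
    | @insert r S hr ih =>
      intro hS t
      obtain ⟨d, hd, hd1, hd2⟩ := ih (fun l hl => hS l (Finset.mem_insert_of_mem hl)) t
      have hrr := hS r (Finset.mem_insert_self _ _)
      obtain ⟨g, hg, hg1, hg2⟩ := exists_eq_one_on hT hsurj (i := r)
        (Finset.univ.filter fun l => c l = l ∧ l ≠ r) (fun l hl => by
          simp only [Finset.mem_filter, Finset.mem_univ, true_and] at hl
          obtain ⟨hll, hlr⟩ := hl
          by_contra hno
          push Not at hno
          -- kernels are maximal, so inclusion forces equality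
          obtain ⟨x, hx⟩ := exists_ne (1 : T)
          refine hlr ?_
          rw [← hll, ← hrr, hcc]
          intro u hu
          refine ⟨fun h => hno u hu h, fun h => ?_⟩
          let W : Subgroup T :=
            { carrier := {w | ∃ v ∈ D, v r = 1 ∧ v l = w}
              one_mem' := ⟨1, D.one_mem, rfl, rfl⟩
              mul_mem' := by
                rintro _ _ ⟨v, hv, hv1, rfl⟩ ⟨v', hv', hv1', rfl⟩
                exact ⟨v * v', D.mul_mem hv hv', by simp [hv1, hv1'], rfl⟩
              inv_mem' := by
                rintro _ ⟨v, hv, hv1, rfl⟩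
                exact ⟨v⁻¹, D.inv_mem hv, by simp [hv1], rfl⟩ }
          have hW : W.Normal := by
            constructor
            rintro _ ⟨v, hv, hv1, rfl⟩ y
            obtain ⟨w, hw, rfl⟩ := hsurj l y
            exact ⟨w * v * w⁻¹, D.mul_mem (D.mul_mem hw hv) (D.inv_mem hw), by simp [hv1], rfl⟩
          rcases hW.eq_bot_or_eq_top with hW | hW
          · have : u l ∈ W := ⟨u, hu, h, rfl⟩
            simpa [hW] using this
          · exfalso
            obtain ⟨y, hy, hyr⟩ := hsurj r x
            obtain ⟨v, hv, hv1, hvl⟩ := hW.ge (mem_top (y l))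
            have := hno (y * v⁻¹) (D.mul_mem hy (D.inv_mem hv)) (by simp [hvl])
            simp [hv1, hyr] at this
            exact hx this) ((d r)⁻¹ * t r)
      refine ⟨d * g, D.mul_mem hd hg, fun l hl => ?_, fun l hl hlS => ?_⟩
      · rcases Finset.mem_insert.1 hl with rfl | hl'
        · simp [hg2]
        · have hlr : l ≠ r := fun e => hr (e ▸ hl')
          simp [hd1 l hl', hg1 l (Finset.mem_filter.2 ⟨Finset.mem_univ _, hS l hl, hlr⟩)]
      · rw [Finset.mem_insert, not_or] at hlS
        simp [hd2 l hl hlS.2, hg1 l (Finset.mem_filter.2 ⟨Finset.mem_univ _, hl, hlS.1⟩)]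
  obtain ⟨d, hd, hd1, -⟩ := key (Finset.univ.filter fun r => c r = r)
    (fun r hr => (Finset.mem_filter.1 hr).2) (fun r => (θ r).symm (f r))
  convert hd
  funext i
  have h1 : d (c i) = (θ (c i)).symm (f (c i)) :=
    hd1 (c i) (Finset.mem_filter.2 ⟨Finset.mem_univ _, hidem i⟩)
  rw [hθ i d hd, h1, hf (c i) i (hidem i), MulEquiv.apply_symm_apply]

/-- An automorphism of the power acts coordinatewise after a permutation of the coordinates. -/
theorem exists_coordinatewise [DecidableEq ι] [Finite ι] (hT : ¬ IsMulCommutative T)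
    (σ : (ι → T) ≃* (ι → T)) :
    ∃ (p : Equiv.Perm ι) (ψ : ι → T ≃* T), ∀ f i, σ f (p i) = ψ i (f i) := by
  choose p hp using fun i => exists_map_factor hT σ i
  have hinj : Function.Injective p := fun i j h => by
    have := (hp i).trans ((congrArg (factor T) h).trans (hp j).symm)
    exact eq_of_factor_le (Subgroup.map_injective σ.injective this).le
  have hcenter : ∀ x : T, (∀ y, y * x = x * y) → x = 1 := fun x hx => by
    by_contra h
    obtain ⟨y, hy⟩ := exists_not_commute hT h
    exact hy (by rw [← hx y]; group)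
  have key : ∀ f i, σ f (p i) = σ (Pi.mulSingle i (f i)) (p i) := fun f i => by
    set g := (Pi.mulSingle i (f i))⁻¹ * f with hg
    have hgi : g i = 1 := by simp [hg]
    have hz : σ g (p i) = 1 := hcenter _ fun y => by
      obtain ⟨u, hu, hue⟩ := (hp i).ge (mulSingle_mem_factor (p i) y)
      have hc : u * g = g * u := funext fun l => by
        by_cases hl : l = i
        · subst hl; simp [hgi]
        · simp [mem_factor.1 hu l hl]
      have := congrFun (congrArg σ hc) (p i)
      simp only [map_mul, Pi.mul_apply] at this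
      rw [show σ u = Pi.mulSingle (p i) y from hue] at this
      simpa using this
    calc σ f (p i) = σ (Pi.mulSingle i (f i) * g) (p i) := by rw [hg, mul_inv_cancel_left]
      _ = _ := by rw [map_mul, Pi.mul_apply, hz, mul_one]
  have hψ : ∀ i, Function.Bijective ((Pi.evalMonoidHom (fun _ : ι => T) (p i)).comp
      (σ.toMonoidHom.comp (MonoidHom.mulSingle (fun _ : ι => T) i))) := by
    intro i
    constructor
    · refine (injective_iff_map_eq_one _).2 fun t ht => ?_
      have hmem : σ (Pi.mulSingle i t) ∈ factor T (p i) :=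
        (hp i).le ⟨_, mulSingle_mem_factor i t, rfl⟩
      have h1 := eq_mulSingle_of_mem_factor hmem
      have ht' : σ (Pi.mulSingle i t) (p i) = 1 := ht
      rw [ht'] at h1
      have h2 : Pi.mulSingle i t = (1 : ι → T) := σ.injective (by simpa using h1)
      simpa using congrFun h2 i
    · intro t
      obtain ⟨f, hf⟩ := σ.surjective (Pi.mulSingle (p i) t)
      refine ⟨f i, ?_⟩
      show σ (Pi.mulSingle i (f i)) (p i) = t
      rw [← key, hf, Pi.mulSingle_eq_same]
  exact ⟨Equiv.ofBijective p (Finite.injective_iff_bijective.1 hinj),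
    fun i => MulEquiv.ofBijective _ (hψ i), key⟩

end CfsgLib.ScottLemma
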